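import Groth.Agent.FonLafLib.Summand

/-!
# Gluing data for Fontaine–Laffaille modules
-/

set_option autoImplicit false
set_option linter.style.haveILetI false

universe u v

namespace Groth.Agent.FonLafLib

variable {R : Type u} [CommRing R] {σ : R →+* R} {π : R}

section

variable {N : ℕ → Type v} [∀ i, AddCommGroup (N i)] [∀ i, Module R (N i)] {r : ℕ}

/-- Extend a finite family by zero. -/
noncomputable def ext0 : ((i : Fin r) → N (i.val + 1)) →ₗ[R] ((i : ℕ) → N (i + 1)) where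
  toFun z i := if h : i < r then z ⟨i, h⟩ else 0
  map_add' a b := funext fun i => by by_cases h : i < r <;> simp [h]
  map_smul' c a := funext fun i => by by_cases h : i < r <;> simp [h]

variable (π) (α : ∀ i, N (i + 1) →ₗ[R] N i)

/-- The gluing map. -/
noncomputable def glue : ((i : Fin r) → N (i.val + 1)) →ₗ[R] N 0 × ((i : Fin r) → N (i.val + 1)) :=
  ((α 0).comp ((LinearMap.proj 0).comp (ext0 (R := R)))).prod
    (LinearMap.pi fun i => (α (i.val + 1)).comp ((LinearMap.proj (i.val + 1)).comp (ext0 (R := R))) - π • LinearMap.proj i)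

theorem glue_fst (z : (i : Fin r) → N (i.val + 1)) : (glue π α z).1 = α 0 (ext0 (R := R) z 0) := rfl

theorem glue_snd (z : (i : Fin r) → N (i.val + 1)) (i : Fin r) :
    (glue π α z).2 i = α (i.val + 1) (ext0 (R := R) z (i.val + 1)) - π • z i := rfl

end

variable [RingHomSurjective σ] {N : ℕ → Type v} [∀ i, AddCommGroup (N i)] [∀ i, Module R (N i)] {r : ℕ}
  (hfl : ∀ i, IsFiniteLength R (N i))
  (α : ∀ i, N (i + 1) →ₗ[R] N i) (φ : ∀ i, N i →ₛₗ[σ] N 0)
  (hsurj : ∀ m : N 0, ∃ y : (i : ℕ) → N i, (∀ i, r < i → y i = 0) ∧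
    (Finset.range (r + 1)).sum (fun i => φ i (y i)) = m)
  (hker : ∀ y : (i : ℕ) → N i, (∀ i, r < i → y i = 0) →
    (Finset.range (r + 1)).sum (fun i => φ i (y i)) = 0 →
      ∃ z : (i : ℕ) → N (i + 1), (∀ i, r ≤ i → z i = 0) ∧
        y 0 = α 0 (z 0) ∧ ∀ i, y (i + 1) = α (i + 1) (z (i + 1)) - π • z i)
include hfl hsurj hker

/-- The gluing map reflects divisibility by any fixed scalar invariant under `σ`. -/
theorem mem_mulsOf_of_glue (t : R) (ht : σ t = t) (z : (i : Fin r) → N (i.val + 1))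
    (h₁ : (glue π α z).1 ∈ mulsOf t (N 0)) (h₂ : (glue π α z).2 ∈ mulsOf t _) :
    z ∈ mulsOf t ((i : Fin r) → N (i.val + 1)) := by
  classical
  let Am := (i : Fin r) → N (i.val + 1)
  let PA : Submodule R Am := mulsOf t Am
  let P0 : Submodule R (N 0) := mulsOf t (N 0)
  let ψ : Am →ₛₗ[σ] N 0 := ∑ i : Fin r, (φ (i.val + 1)).comp (LinearMap.proj i)
  have hψ : ∀ a, ψ a = ∑ i : Fin r, φ (i.val + 1) (a i) := fun a => by
    simp only [ψ, LinearMap.sum_apply, LinearMap.comp_apply]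
    rfl
  let φ₀ : N 0 ⧸ P0 →ₛₗ[σ] N 0 ⧸ P0 := P0.liftQ (P0.mkQ.comp (φ 0)) fun x hx => by
    obtain ⟨w, rfl⟩ := mem_mulsOf.1 hx
    rw [LinearMap.mem_ker, LinearMap.comp_apply, map_smulₛₗ, ht, Submodule.mkQ_apply, Submodule.Quotient.mk_eq_zero]
    exact mem_mulsOf.2 ⟨_, rfl⟩
  let ψ₀ : Am ⧸ PA →ₛₗ[σ] N 0 ⧸ P0 := PA.liftQ (P0.mkQ.comp ψ) fun x hx => by
    obtain ⟨w, rfl⟩ := mem_mulsOf.1 hx
    rw [LinearMap.mem_ker, LinearMap.comp_apply, map_smulₛₗ, ht, Submodule.mkQ_apply, Submodule.Quotient.mk_eq_zero]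
    exact mem_mulsOf.2 ⟨_, rfl⟩
  let Φ : (N 0 ⧸ P0) × (Am ⧸ PA) →ₛₗ[σ] N 0 ⧸ P0 :=
    φ₀.comp (LinearMap.fst R _ _) + ψ₀.comp (LinearMap.snd R _ _)
  let ι : Am ⧸ PA →ₗ[R] (N 0 ⧸ P0) × (Am ⧸ PA) := PA.liftQ ((P0.mkQ.prodMap PA.mkQ).comp (glue π α)) fun x hx => by
    obtain ⟨w, rfl⟩ := mem_mulsOf.1 hx
    rw [LinearMap.mem_ker, LinearMap.comp_apply, map_smul, LinearMap.prodMap_apply, Prod.smul_fst, Prod.smul_snd]
    exact Prod.ext ((Submodule.Quotient.mk_eq_zero P0).2 ⟨_, rfl⟩) ((Submodule.Quotient.mk_eq_zero PA).2 ⟨_, rfl⟩)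
  have hΦmk : ∀ m a, Φ (Submodule.Quotient.mk m, Submodule.Quotient.mk a) =
      Submodule.Quotient.mk (φ 0 m + ψ a) := fun m a => rfl
  have hΦ : Function.Surjective Φ := fun q => by
    obtain ⟨m, rfl⟩ := Submodule.Quotient.mk_surjective _ q
    obtain ⟨y, -, hy⟩ := hsurj m
    refine ⟨(Submodule.Quotient.mk (y 0), Submodule.Quotient.mk fun i : Fin r => y (i.val + 1)), ?_⟩
    rw [hΦmk, hψ, ← hy, Finset.sum_range_succ', add_comm (∑ k ∈ Finset.range r, _),
      Fin.sum_univ_eq_sum_range fun k => φ (k + 1) (y (k + 1))]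
  have hkerΦ : LinearMap.ker Φ ≤ LinearMap.range ι := by
    rintro ⟨qm, qa⟩ hq
    obtain ⟨m, rfl⟩ := Submodule.Quotient.mk_surjective _ qm
    obtain ⟨a, rfl⟩ := Submodule.Quotient.mk_surjective _ qa
    rw [LinearMap.mem_ker, hΦmk, Submodule.Quotient.mk_eq_zero] at hq
    obtain ⟨w, hw⟩ := mem_mulsOf.1 hq
    obtain ⟨y, hy0, hy⟩ := hsurj w
    let y' : (i : ℕ) → N i := fun i => match i with
      | 0 => m - t • y 0
      | k + 1 => (if h : k < r then a ⟨k, h⟩ else 0) - t • y (k + 1)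
    have hy'0 : ∀ i, r < i → y' i = 0 := fun i hi => by
      obtain ⟨k, rfl⟩ : ∃ k, i = k + 1 := ⟨i - 1, by omega⟩
      show (if h : k < r then a ⟨k, h⟩ else 0) - t • y (k + 1) = 0
      rw [dif_neg (by omega), hy0 _ hi, smul_zero, sub_zero]
    have hsum : (Finset.range (r + 1)).sum (fun i => φ i (y' i)) = 0 := by
      rw [Finset.sum_range_succ', ← Fin.sum_univ_eq_sum_range fun k => φ (k + 1) (y' (k + 1))]
      have he : ∀ i : Fin r, φ (i.val + 1) (y' (i.val + 1)) = φ (i.val + 1) (a i) - t • φ (i.val + 1) (y (i.val + 1)) :=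
        fun i => by
          show φ (i.val + 1) ((if h : i.val < r then a ⟨i.val, h⟩ else 0) - t • y (i.val + 1)) = _
          rw [dif_pos i.2, map_sub, map_smulₛₗ, ht]
      rw [Finset.sum_congr rfl fun i _ => he i, Finset.sum_sub_distrib, ← Finset.smul_sum, ← hψ,
        show φ 0 (y' 0) = φ 0 m - t • φ 0 (y 0) by show φ 0 (m - t • y 0) = _; rw [map_sub, map_smulₛₗ, ht],
        Fin.sum_univ_eq_sum_range fun k => φ (k + 1) (y (k + 1)), sub_add_sub_comm, ← smul_add,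
        add_comm (ψ a), ← hw, ← Finset.sum_range_succ' (fun k => φ k (y k)), hy, sub_self]
    obtain ⟨z', hz'0, hz'1, hz'2⟩ := hker y' hy'0 hsum
    refine ⟨Submodule.Quotient.mk fun i : Fin r => z' i.val, ?_⟩
    have hext : ∀ k, ext0 (R := R) (fun i : Fin r => z' i.val) k = z' k := fun k => by
      show (if h : k < r then z' k else 0) = z' k
      split_ifs with hk
      · rfl
      · exact (hz'0 k (by omega)).symm
    refine Prod.ext ((Submodule.Quotient.eq P0).2 (mem_mulsOf.2 ⟨-y 0, ?_⟩))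
      ((Submodule.Quotient.eq PA).2 (mem_mulsOf.2 ⟨fun i => -y (i.val + 1), funext fun i => ?_⟩))
    · show t • -y 0 = (glue π α (fun i : Fin r => z' i.val)).1 - m
      rw [glue_fst, hext, ← hz'1]
      show t • -y 0 = (m - t • y 0) - m
      rw [smul_neg]; abel
    · show t • -y (i.val + 1) = (glue π α (fun i : Fin r => z' i.val)).2 i - a i
      rw [glue_snd, hext, ← hz'2]
      show _ = ((if h : i.val < r then a ⟨i.val, h⟩ else 0) - t • y (i.val + 1)) - a i
      rw [dif_pos i.2, smul_neg]; abel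
  have hAfl : IsFiniteLength R (Am ⧸ PA) := by
    haveI : ∀ i : Fin r, IsNoetherian R (N (i.val + 1)) := fun i => (isFiniteLength_iff_isNoetherian_isArtinian.1 (hfl _)).1
    haveI : ∀ i : Fin r, IsArtinian R (N (i.val + 1)) := fun i => (isFiniteLength_iff_isNoetherian_isArtinian.1 (hfl _)).2
    exact isFiniteLength_iff_isNoetherian_isArtinian.2 ⟨inferInstance, inferInstance⟩
  have hMfl : IsFiniteLength R (N 0 ⧸ P0) := by
    haveI := (isFiniteLength_iff_isNoetherian_isArtinian.1 (hfl 0)).1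
    haveI := (isFiniteLength_iff_isNoetherian_isArtinian.1 (hfl 0)).2
    exact isFiniteLength_iff_isNoetherian_isArtinian.2 ⟨inferInstance, inferInstance⟩
  have hlen : Module.length R (Am ⧸ PA) + Module.length R (N 0 ⧸ P0) ≤
      Module.length R ((N 0 ⧸ P0) × (Am ⧸ PA)) := by rw [Module.length_prod, add_comm]
  have hinj := injective_of_length ι Φ hΦ hkerΦ hAfl hMfl hlen
  refine (Submodule.Quotient.mk_eq_zero PA).1 (hinj ?_)
  rw [map_zero]
  exact Prod.ext ((Submodule.Quotient.mk_eq_zero P0).2 h₁) ((Submodule.Quotient.mk_eq_zero PA).2 h₂)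

theorem alpha_reflects (hσπ : σ π = π) (i : ℕ) (hi : i < r) :
    (∀ n y, α i y ∈ mulsOf (π ^ n) (N i) → y ∈ mulsOf (π ^ n) (N (i + 1))) ∧
      ∀ y : N (i + 1), π • y = 0 → α i y = 0 → y = 0 := by
  classical
  have hsingle : ∀ y : N (i + 1),
      ext0 (R := R) (r := r) (Pi.single (M := fun j : Fin r => N (j.val + 1)) ⟨i, hi⟩ y) i = y := fun y => by
    show (if h : i < r then Pi.single (M := fun j : Fin r => N (j.val + 1)) ⟨i, hi⟩ y ⟨i, h⟩ else 0) = y
    rw [dif_pos hi, Pi.single_eq_same]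
  have hsingle' : ∀ (y : N (i + 1)) (k : ℕ), k ≠ i →
      ext0 (R := R) (r := r) (Pi.single (M := fun j : Fin r => N (j.val + 1)) ⟨i, hi⟩ y) k = 0 := fun y k hk => by
    show (if h : k < r then (Pi.single (M := fun j : Fin r => N (j.val + 1)) ⟨i, hi⟩ y ⟨k, h⟩ : N (k + 1)) else (0 : N (k + 1))) = (0 : N (k + 1))
    split_ifs with hkr
    · exact Pi.single_eq_of_ne (fun hh => hk (congrArg Fin.val hh)) _
    · rfl
  -- divisibility of the image of a family supported at one index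
  have key : ∀ (t : R), σ t = t → ∀ y : N (i + 1), α i y ∈ mulsOf t (N i) → π • y ∈ mulsOf t (N (i + 1)) →
      y ∈ mulsOf t (N (i + 1)) := by
    intro t ht y hy hπy
    obtain ⟨b, hb⟩ := mem_mulsOf.1 hy
    obtain ⟨c, hc⟩ := mem_mulsOf.1 hπy
    let z := Pi.single (M := fun j : Fin r => N (j.val + 1)) ⟨i, hi⟩ y
    have hα : ∀ k, α k (ext0 (R := R) z k) ∈ mulsOf t (N k) := fun k => by
      by_cases hk : k = i
      · subst hk; rw [hsingle]; exact hy
      · rw [hsingle' y k hk, map_zero]; exact zero_mem _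
    have hz : z ∈ mulsOf t _ := by
      refine mem_mulsOf_of_glue hfl α φ hsurj hker t ht z (by rw [glue_fst]; exact hα 0) ?_
      have hcomp : ∀ j : Fin r, (glue π α z).2 j ∈ mulsOf t (N (j.val + 1)) := fun j => by
        rw [glue_snd]
        refine sub_mem (hα _) ?_
        by_cases hj : j = ⟨i, hi⟩
        · subst hj; simp only [z, Pi.single_eq_same]; exact hπy
        · simp only [z, Pi.single_eq_of_ne hj, smul_zero]; exact zero_mem _
      choose w hw using fun j => mem_mulsOf.1 (hcomp j)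
      exact mem_mulsOf.2 ⟨w, funext hw⟩
    obtain ⟨w, hw⟩ := mem_mulsOf.1 hz
    exact mem_mulsOf.2 ⟨w ⟨i, hi⟩, (congrFun hw ⟨i, hi⟩).trans (Pi.single_eq_same _ _)⟩
  refine ⟨fun n => ?_, fun y hy hy' => ?_⟩
  · induction n with
    | zero => exact fun y _ => mem_mulsOf.2 ⟨y, by simp⟩
    | succ n ih =>
      intro y hy
      obtain ⟨b, hb⟩ := mem_mulsOf.1 hy
      obtain ⟨y₁, hy₁⟩ := mem_mulsOf.1 (ih y (mem_mulsOf.2 ⟨π • b, by rw [smul_smul, ← pow_succ, hb]⟩))
      exact key _ (by rw [map_pow, hσπ]) y hy (mem_mulsOf.2 ⟨y₁, by rw [← hy₁, smul_smul, ← pow_succ']⟩)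
  · obtain ⟨w, hw⟩ := mem_mulsOf.1 (key 0 (map_zero _) y (by rw [hy']; exact zero_mem _) (by rw [hy]; exact zero_mem _))
    rw [← hw, zero_smul]

end Groth.Agent.FonLafLib
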