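import Mathlib

/-!
# Linear algebra for Fontaine–Laffaille modules
-/

set_option autoImplicit false
set_option linter.style.haveILetI false

universe u v w

namespace Groth.Agent.FonLafLib

variable {R : Type u} [CommRing R]

/-- A map whose source is as long as possible is injective. -/
theorem injective_of_length {A B M : Type*} [AddCommGroup A] [Module R A] [AddCommGroup B] [Module R B]
    [AddCommGroup M] [Module R M] {σ : R →+* R} [RingHomSurjective σ]
    (ι : A →ₗ[R] B) (Φ : B →ₛₗ[σ] M) (hΦ : Function.Surjective Φ) (hker : LinearMap.ker Φ ≤ LinearMap.range ι)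
    (hA : IsFiniteLength R A) (hM : IsFiniteLength R M) (hlen : Module.length R A + Module.length R M ≤ Module.length R B) :
    Function.Injective ι := by
  let q := (LinearMap.ker Φ).liftQ Φ le_rfl
  have hq : Function.Bijective q := by
    refine ⟨?_, fun m => ?_⟩
    · rw [← LinearMap.ker_eq_bot]
      exact Submodule.ker_liftQ_eq_bot _ _ _ le_rfl
    · obtain ⟨b, hb⟩ := hΦ m; exact ⟨Submodule.Quotient.mk b, hb⟩
  have hlq : Module.length R (B ⧸ LinearMap.ker Φ) = Module.length R M := by
    apply WithBot.coe_injective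
    rw [Module.coe_length, Module.coe_length]
    exact Order.krullDim_eq_of_orderIso (Submodule.orderIsoMapComapOfBijective q hq)
  have hB := Module.length_eq_add_of_exact (LinearMap.ker Φ).subtype (LinearMap.ker Φ).mkQ
    (Submodule.subtype_injective _) (Submodule.mkQ_surjective _) (LinearMap.exact_subtype_mkQ _)
  have hA' := Module.length_eq_add_of_exact (LinearMap.ker ι).subtype ι.rangeRestrict
    (Submodule.subtype_injective _) ι.surjective_rangeRestrict
    (LinearMap.exact_iff.2 (by rw [LinearMap.ker_rangeRestrict, Submodule.range_subtype]))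
  have hle : Module.length R (LinearMap.ker Φ) ≤ Module.length R (LinearMap.range ι) :=
    Module.length_le_of_injective (Submodule.inclusion hker) (Submodule.inclusion_injective hker)
  rw [hB, hlq, hA'] at hlen
  have h1 : Module.length R (LinearMap.ker ι) + Module.length R (LinearMap.range ι) ≠ ⊤ := by
    rw [← hA']; exact Module.length_ne_top_iff.2 hA
  have h2 := Module.length_ne_top_iff.2 hM
  replace h1 : Module.length R (LinearMap.ker ι) ≠ ⊤ ∧ Module.length R (LinearMap.range ι) ≠ ⊤ :=
    ⟨ne_top_of_le_ne_top h1 le_self_add, ne_top_of_le_ne_top h1 le_add_self⟩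
  lift Module.length R (LinearMap.ker ι) to ℕ using h1.1 with a ha
  lift Module.length R (LinearMap.range ι) to ℕ using h1.2 with b hb
  lift Module.length R M to ℕ using h2 with m hm
  lift Module.length R (LinearMap.ker Φ) to ℕ using ne_top_of_le_ne_top (ENat.coe_ne_top b) hle with k hk
  norm_cast at hlen hle
  have : Module.length R (LinearMap.ker ι) = 0 := by
    rw [← ha, show a = 0 by omega]; rfl
  rw [← LinearMap.ker_eq_bot, Submodule.eq_bot_iff]
  haveI := Module.length_eq_zero_iff.1 this
  exact fun x hx => congrArg Subtype.val (Subsingleton.elim (⟨x, hx⟩ : LinearMap.ker ι) 0)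

/-- The multiples of `t`. -/
abbrev mulsOf (t : R) (N : Type*) [AddCommGroup N] [Module R N] : Submodule R N :=
  LinearMap.range (LinearMap.lsmul R N t)

theorem mem_mulsOf {t : R} {N : Type*} [AddCommGroup N] [Module R N] {x : N} :
    x ∈ mulsOf t N ↔ ∃ y, t • y = x := Iff.rfl

theorem injective_of_injective_on_torsion {π : R} {L N : Type*} [AddCommGroup L] [Module R L] [AddCommGroup N]
    [Module R N] (f : L →ₗ[R] N) {n : ℕ} (hn : ∀ y : L, π ^ n • y = 0)
    (h : ∀ y, π • y = 0 → f y = 0 → y = 0) : Function.Injective f := by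
  rw [injective_iff_map_eq_zero]
  suffices ∀ m (y : L), π ^ m • y = 0 → f y = 0 → y = 0 from fun y hy => this n y (hn y) hy
  intro m
  induction m with
  | zero => intro y hy _; simpa using hy
  | succ m ih =>
    intro y hy hfy
    refine ih y (h _ ?_ (by rw [map_smul, hfy, smul_zero])) hfy
    rw [smul_smul, ← pow_succ']; exact hy

theorem pure_pow {π : R} {L N : Type*} [AddCommGroup L] [Module R L] [AddCommGroup N] [Module R N]
    (f : L →ₗ[R] N) (hpure : ∀ n y, f y ∈ mulsOf (π ^ n) N → y ∈ mulsOf (π ^ n) L)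
    (n : ℕ) (x : N) (y : L) (h : π ^ n • x = f y) : ∃ y', π ^ n • x = π ^ n • f y' := by
  obtain ⟨y', hy'⟩ := mem_mulsOf.1 (hpure n y (mem_mulsOf.2 ⟨x, h⟩))
  exact ⟨y', by rw [← map_smul, hy', h]⟩

theorem exists_pow_smul_eq_zero [IsLocalRing R] {π : R} (hπ : Irreducible π) {N : Type*} [AddCommGroup N] [Module R N]
    (h : IsFiniteLength R N) : ∃ n, ∀ x : N, π ^ n • x = 0 := by
  obtain ⟨h₁, h₂⟩ := isFiniteLength_iff_isNoetherian_isArtinian.1 h
  haveI := h₁; haveI := h₂
  obtain ⟨n, hn⟩ := IsArtinian.monotone_stabilizes (R := R) (M := N)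
    ⟨fun n => OrderDual.toDual (Ideal.span {π} ^ n • (⊤ : Submodule R N)),
      fun a b hab => Submodule.smul_mono_left (Ideal.pow_le_pow_right hab)⟩
  have heq : Ideal.span {π} ^ n • (⊤ : Submodule R N) = Ideal.span {π} ^ (n + 1) • (⊤ : Submodule R N) :=
    congrArg OrderDual.ofDual (hn (n + 1) (Nat.le_succ n))
  have h0 : Ideal.span {π} ^ n • (⊤ : Submodule R N) = ⊥ :=
    Submodule.eq_bot_of_le_smul_of_le_jacobson_bot (Ideal.span {π}) _ (IsNoetherian.noetherian _)
      (by rw [← Submodule.smul_assoc, smul_eq_mul, ← pow_succ', ← heq])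
      ((IsLocalRing.le_maximalIdeal (mt Ideal.span_singleton_eq_top.1 hπ.not_isUnit)).trans
        (IsLocalRing.maximalIdeal_le_jacobson _))
  refine ⟨n, fun x => ?_⟩
  rw [← Submodule.mem_bot R, ← h0]
  exact Submodule.smul_mem_smul (Ideal.pow_mem_pow (Ideal.mem_span_singleton_self π) n) Submodule.mem_top

theorem exists_isCompl [IsDomain R] [IsDiscreteValuationRing R] {π : R} (hπ : Irreducible π) {L N : Type*}
    [AddCommGroup L] [Module R L] [AddCommGroup N] [Module R N] [Module.Finite R N] (hN : Module.IsTorsion R N)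
    (f : L →ₗ[R] N) (hpure : ∀ n y, f y ∈ mulsOf (π ^ n) N → y ∈ mulsOf (π ^ n) L) :
    ∃ Q : Submodule R N, IsCompl (LinearMap.range f) Q := by
  classical
  let Q := N ⧸ LinearMap.range f
  have hQ : Module.IsTorsion R Q := fun {q} => by
    obtain ⟨x, rfl⟩ := Submodule.Quotient.mk_surjective _ q
    obtain ⟨a, ha⟩ := @hN x
    exact ⟨a, by rw [← Submodule.Quotient.mk_smul, ha, Submodule.Quotient.mk_zero]⟩
  obtain ⟨ι', hι', p', hp', e', ⟨E⟩⟩ := Module.equiv_directSum_of_isTorsion hQ
  have hgen : ∀ i, ∃ x : N, p' i ^ e' i • x = 0 ∧ Submodule.Quotient.mk x =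
      E.symm (DirectSum.lof R ι' (fun i => R ⧸ Submodule.span R {p' i ^ e' i}) i (Submodule.Quotient.mk 1)) := by
    intro i
    obtain ⟨x, hx⟩ := Submodule.Quotient.mk_surjective (LinearMap.range f)
      (E.symm (DirectSum.lof R ι' (fun i => R ⧸ Submodule.span R {p' i ^ e' i}) i (Submodule.Quotient.mk 1)))
    obtain ⟨u, hu⟩ := IsDiscreteValuationRing.associated_of_irreducible R hπ (hp' i)
    have h0 : p' i ^ e' i • x ∈ LinearMap.range f := by
      rw [← Submodule.Quotient.mk_eq_zero, Submodule.Quotient.mk_smul, hx, ← map_smul, ← map_smul,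
        ← Submodule.Quotient.mk_smul, (Submodule.Quotient.mk_eq_zero _).2 (Submodule.mem_span_singleton.2 ⟨1, by simp⟩),
        map_zero, map_zero]
    rw [← hu, mul_pow] at h0
    obtain ⟨y, hy⟩ := h0
    have hy' : π ^ e' i • x = f ((↑(u⁻¹ ^ e' i) : R) • y) := by
      rw [map_smul, hy, smul_smul, ← Units.val_pow_eq_pow_val, mul_comm (π ^ e' i), ← mul_assoc, ← Units.val_mul,
        ← mul_pow, inv_mul_cancel, one_pow, Units.val_one, one_mul]
    obtain ⟨y', hy''⟩ := pure_pow f hpure _ x _ hy'
    refine ⟨x - f y', ?_, ?_⟩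
    · rw [← hu, mul_pow, mul_comm, mul_smul, smul_sub, ← hy'', sub_self, smul_zero]
    · rw [Submodule.Quotient.mk_sub, (Submodule.Quotient.mk_eq_zero _).2 (LinearMap.mem_range_self f y'), sub_zero, hx]
  choose x hx0 hx using hgen
  let s : Q →ₗ[R] N := (DirectSum.toModule R ι' N fun i =>
    (Submodule.span R {p' i ^ e' i}).liftQ (LinearMap.toSpanSingleton R N (x i))
      ((Submodule.span_singleton_le_iff_mem _ _).2 (hx0 i))) ∘ₗ E.toLinearMap
  have hs : (LinearMap.range f).mkQ ∘ₗ s = LinearMap.id := by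
    refine LinearMap.ext fun q => ?_
    obtain ⟨z, rfl⟩ := E.symm.surjective q
    simp only [s, LinearMap.comp_apply, LinearEquiv.coe_coe, LinearEquiv.apply_symm_apply, LinearMap.id_apply]
    induction z using DirectSum.induction_on with
    | zero => simp
    | of i c =>
      obtain ⟨c, rfl⟩ := Submodule.Quotient.mk_surjective _ c
      rw [← DirectSum.lof_eq_of R, DirectSum.toModule_lof, Submodule.liftQ_apply, LinearMap.toSpanSingleton_apply,
        map_smul, Submodule.mkQ_apply, hx, ← map_smul, ← map_smul, ← Submodule.Quotient.mk_smul, smul_eq_mul, mul_one]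
    | add a b ha hb => rw [map_add, map_add, ha, hb, map_add]
  have hs' : ∀ q, Submodule.Quotient.mk (s q) = q := fun q => LinearMap.congr_fun hs q
  refine ⟨LinearMap.range s, ⟨Submodule.disjoint_def.2 ?_, codisjoint_iff.2 (eq_top_iff.2 fun x _ => ?_)⟩⟩
  · rintro z hz ⟨q, rfl⟩
    rw [← hs' q, (Submodule.Quotient.mk_eq_zero _).2 hz, map_zero]
  · refine Submodule.mem_sup.2 ⟨x - s (Submodule.Quotient.mk x), ?_, _, LinearMap.mem_range_self s _, sub_add_cancel _ _⟩
    rw [← Submodule.Quotient.mk_eq_zero, Submodule.Quotient.mk_sub, hs', sub_self]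

end Groth.Agent.FonLafLib
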